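import Groth.Agent.Grpsch.AffGrpd
import Mathlib.LinearAlgebra.Matrix.GeneralLinearGroup.Defs
import Mathlib.LinearAlgebra.Matrix.Determinant.Basic
import Mathlib.RingTheory.Adjoin.Basic
import Mathlib.RingTheory.FiniteType
import Mathlib.RingTheory.RingHom.Flat
import Mathlib.RingTheory.RingHom.FiniteType
import Mathlib.RingTheory.Noetherian.Basic

/-!
# Cover datum, team B: the frame ring of a groupoid at one point, on points

Groupoid: `G : RGrpd A Γ` (functor of points).  Everything is expressed by identities on `T`-points.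
-/

set_option autoImplicit false

universe u

open Groth.Agent.Grpsch.AffGrpd

namespace Groth.Agent.ResProp.EF.K743

variable {A Γ : Type u} [CommRing A] [CommRing Γ]

/-- Generators of `O(arrows)` over the source, spanning a subcomodule.
`c k j` : the coaction matrix, `x_j (α ∘ β) = ∑ x_k (α) c_kj (β)`. -/
structure Gens (G : RGrpd A Γ) where
  n : ℕ
  x : Fin n → Γ
  c : Fin n → Fin n → Γ
  j0 : Fin n
  hx0 : x j0 = 1
  gen : Subring.closure (Set.range G.s ∪ Set.range x) = ⊤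
  hc : ∀ {T : Type u} [CommRing T] (α β : Γ →+* T) (h : α.comp G.s = β.comp G.t) (j : Fin n),
    G.comp α β h (x j) = ∑ k, α (x k) * β (c k j)

/-- the ordered monomial `x^J` -/
def Gens.mon {G : RGrpd A Γ} (X : Gens G) {m : ℕ} (J : Fin m → Fin X.n) : Γ := ∏ i, X.x (J i)

/-- the choice of the degree `m`; `𝕜` is the base ring.
`pres`: `Γ = A[X]/(X_{j0} - 1, relations homogeneous of degree m)`, on points. -/
structure MData (𝕜 : Type u) [CommRing 𝕜] [Algebra 𝕜 A] (G : RGrpd A Γ) (X : Gens G) where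
  m : ℕ
  pres : ∀ (T : Type u) [CommRing T] (a : A →+* T) (v : Fin X.n → T), v X.j0 = 1 →
    (∀ F : (Fin m → Fin X.n) → A, ∑ J, G.s (F J) * X.mon J = 0 → ∑ J, a (F J) * ∏ i, v (J i) = 0) →
    ∃ h : Γ →+* T, h.comp G.s = a ∧ ∀ j, h (X.x j) = v j
  na : ℕ
  a : Fin na → A
  ha : Algebra.adjoin 𝕜 (Set.range a) = ⊤
  al : Fin na → (Fin m → Fin X.n) → A
  hal : ∀ i, G.t (a i) = ∑ J, G.s (al i J) * X.mon J
  ne : ℕ
  e : Fin ne → Γ
  he : Subring.closure (Set.range (G.s.comp (algebraMap 𝕜 A)) ∪ Set.range e) = ⊤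
  be : Fin ne → (Fin m → Fin X.n) → (Fin m → Fin X.n) → A
  hbe : ∀ {T : Type u} [CommRing T] (h₁ h₂ : Γ →+* T) (hs : h₂.comp G.s = (h₁.comp G.i).comp G.t) (i : Fin ne),
    G.comp h₂ (h₁.comp G.i) hs (e i) = ∑ J, ∑ K, h₁ (G.s (be i J K)) * h₁ (X.mon J) * h₂ (X.mon K)
  et : Fin X.n → Fin X.n → (Fin m → Fin X.n) → A
  het : ∀ k j, G.i (X.c k j) = ∑ J, G.s (et k j J) * X.mon J

/-- The frame ring (without the point): `Q₁ j` = the frame coordinates of the generator `x_j`, `μ` = the multiplication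
`S^m W₁ → W₂` in the frames. -/
structure FrameData (G : RGrpd A Γ) (X : Gens G) (m : ℕ) where
  D : Type u
  [commRing : CommRing D]
  ι : A →+* D
  r₁ : ℕ
  r₂ : ℕ
  Q₁ : Fin X.n → Fin r₁ → D
  μ : (Fin m → Fin r₁) → Fin r₂ → D
  gen : Subring.closure (Set.range ι ∪ Set.range (fun p : Fin X.n × Fin r₁ => Q₁ p.1 p.2) ∪
    Set.range (fun p : (Fin m → Fin r₁) × Fin r₂ => μ p.1 p.2)) = ⊤

attribute [instance] FrameData.commRing

namespace FrameData

variable {G : RGrpd A Γ} {X : Gens G} {m : ℕ} (F : FrameData G X m)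

/-- the frame coordinates of `x^J` -/
def Q₂ (J : Fin m → Fin X.n) (b : Fin F.r₂) : F.D :=
  ∑ κ : Fin m → Fin F.r₁, (∏ i, F.Q₁ (J i) (κ i)) * F.μ κ b

/-- `r₁`-minors of `Q₁` -/
def m₁ (I : Fin F.r₁ → Fin X.n) : F.D := Matrix.det (Matrix.of fun i a => F.Q₁ (I i) a)

/-- `r₂`-minors of `Q₂` -/
def m₂ (I : Fin F.r₂ → Fin m → Fin X.n) : F.D := Matrix.det (Matrix.of fun i b => F.Q₂ (I i) b)

/-- the semi-invariants: products of an `r₁`-minor and an `r₂`-minor -/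
def δ (I : (Fin F.r₁ → Fin X.n) × (Fin F.r₂ → Fin m → Fin X.n)) : F.D := F.m₁ I.1 * F.m₂ I.2

/-- `T`-points of the open subscheme of frames -/
def InW {T : Type u} [CommRing T] (φ : F.D →+* T) : Prop :=
  Ideal.span (Set.range fun I => φ (F.δ I)) = ⊤

end FrameData

/-- the frame ring with its identities and the action of the groupoid -/
structure Frame (G : RGrpd A Γ) (X : Gens G) (m : ℕ) extends FrameData G X m where
  P1 : ∀ {T : Type u} [CommRing T] (φ : D →+* T) (h : Γ →+* T), h.comp G.s = φ.comp ι →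
    ∀ (I : Fin r₁ → Fin X.n) (j : Fin X.n),
      φ (toFrameData.m₁ I) * h (X.x j) = ∑ i, φ (toFrameData.m₁ (Function.update I i j)) * h (X.x (I i))
  P2 : ∀ {T : Type u} [CommRing T] (φ : D →+* T) (h : Γ →+* T), h.comp G.s = φ.comp ι →
    ∀ (I : Fin r₂ → Fin m → Fin X.n) (J : Fin m → Fin X.n),
      φ (toFrameData.m₂ I) * h (X.mon J) = ∑ i, φ (toFrameData.m₂ (Function.update I i J)) * h (X.mon (I i))
  P4 : ∀ F : (Fin m → Fin X.n) → A, ∑ J, G.s (F J) * X.mon J = 0 → ∀ b, ∑ J, ι (F J) * toFrameData.Q₂ J b = 0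
  act : ∀ {T : Type u} [CommRing T] (σ : Γ →+* T) (φ : D →+* T), σ.comp G.s = φ.comp ι → (D →+* T)
  act_ι : ∀ {T : Type u} [CommRing T] (σ : Γ →+* T) (φ : D →+* T) (h : σ.comp G.s = φ.comp ι),
    (act σ φ h).comp ι = σ.comp G.t
  act_Q₁ : ∀ {T : Type u} [CommRing T] (σ : Γ →+* T) (φ : D →+* T) (h : σ.comp G.s = φ.comp ι) (j : Fin X.n)
    (a : Fin r₁), act σ φ h (Q₁ j a) = ∑ k, σ (G.i (X.c k j)) * φ (Q₁ k a)
  act_μ : ∀ {T : Type u} [CommRing T] (σ : Γ →+* T) (φ : D →+* T) (h : σ.comp G.s = φ.comp ι)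
    (κ : Fin m → Fin r₁) (b : Fin r₂), act σ φ h (μ κ b) = φ (μ κ b)
  /-- the identity acts as the identity -/
  act_id : ∀ {T : Type u} [CommRing T] (φ : D →+* T) (h : ((φ.comp ι).comp G.e).comp G.s = φ.comp ι),
    act ((φ.comp ι).comp G.e) φ h = φ
  act_comp : ∀ {T : Type u} [CommRing T] (α β : Γ →+* T) (φ : D →+* T) (hβ : β.comp G.s = φ.comp ι)
    (h : α.comp G.s = β.comp G.t) (h' : (G.comp α β h).comp G.s = φ.comp ι) (h'' : α.comp G.s = (act β φ hβ).comp ι),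
    act (G.comp α β h) φ h' = act α (act β φ hβ) h''

section theta

variable {𝕜 : Type u} [CommRing 𝕜] [Algebra 𝕜 A] {G : RGrpd A Γ} {X : Gens G} (M : MData 𝕜 G X)
  (F : FrameData G X M.m)

/-- the invariant functions: index type -/
inductive TIdx : Type
  | one (a : Fin F.r₁)
  | mu (κ : Fin M.m → Fin F.r₁) (b : Fin F.r₂)
  | al (i : Fin M.na) (b : Fin F.r₂)
  | be (i : Fin M.ne) (b c : Fin F.r₂)
  | et (j : Fin X.n) (a : Fin F.r₁) (b : Fin F.r₂)

/-- the invariant functions -/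
def theta : TIdx M F → F.D
  | .one a => F.Q₁ X.j0 a
  | .mu κ b => F.μ κ b
  | .al i b => ∑ J, F.ι (M.al i J) * F.Q₂ J b
  | .be i b c => ∑ J, ∑ K, F.ι (M.be i J K) * F.Q₂ J b * F.Q₂ K c
  | .et j a b => ∑ k, ∑ J, F.ι (M.et k j J) * F.Q₁ k a * F.Q₂ J b

end theta

/-! ### Nodes -/

/-- **C**: local finiteness. -/
def StmtGens : Prop := ∀ {A Γ : Type u} [CommRing A] [CommRing Γ] (G : RGrpd A Γ), IsNoetherianRing A →
    G.s.Flat → G.s.FiniteType → Nonempty (Gens G)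

/-- **D**: choice of `m`. -/
def StmtMData : Prop := ∀ {𝕜 A Γ : Type u} [CommRing 𝕜] [CommRing A] [CommRing Γ] [Algebra 𝕜 A] (G : RGrpd A Γ)
    (X : Gens G), G.s.comp (algebraMap 𝕜 A) = G.t.comp (algebraMap 𝕜 A) → IsNoetherianRing A →
    Algebra.FiniteType 𝕜 A → G.s.Flat → G.s.FiniteType → Nonempty (MData 𝕜 G X)

/-- **MONO**: the invariant functions separate the points of the quotient. -/
def StmtMono : Prop := ∀ {𝕜 A Γ : Type u} [CommRing 𝕜] [CommRing A] [CommRing Γ] [Algebra 𝕜 A] (G : RGrpd A Γ)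
    (X : Gens G) (M : MData 𝕜 G X) (F : Frame G X M.m)
    (_ : G.s.comp (algebraMap 𝕜 A) = G.t.comp (algebraMap 𝕜 A))
    {T : Type u} [CommRing T] (φ ψ : F.D →+* T), F.InW φ → F.InW ψ →
    (φ.comp F.ι).comp (algebraMap 𝕜 A) = (ψ.comp F.ι).comp (algebraMap 𝕜 A) →
    (∀ i, φ (theta M F.toFrameData i) = ψ (theta M F.toFrameData i)) →
    ∃! σ : Γ →+* T, ∃ h : σ.comp G.s = φ.comp F.ι, F.act σ φ h = ψ

end Groth.Agent.ResProp.EF.K743
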