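import Groth.Agent.ResProp.EF.K743.Trans
import Groth.Agent.ResProp.EF.K394.Gens
import Groth.Agent.ResProp.EF.K373.MData

/-!
# `K412.N1`
-/

set_option autoImplicit false

universe u

open Groth.Agent.Grpsch.AffGrpd

namespace Groth.Agent.ResProp.EF.K743

theorem n1_of (h1 : StmtGens.{u}) (h2 : StmtMData.{u}) : K412.N1.{u} := by
  intro Lb A B _ _ _ _ G hN hA hf hft hst
  obtain ⟨X⟩ := h1 G hN hf hft
  have hst' : G.s.comp (algebraMap Lb A) = G.t.comp (algebraMap Lb A) := RingHom.ext hst
  obtain ⟨M⟩ := h2 (𝕜 := Lb) G X hst' hN hA hf hft
  exact ⟨{ n := X.n
           m := M.m
           c := X.x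
           i0 := X.j0
           c_i0 := X.hx0
           g := Matrix.of X.c
           comp_c := fun α β h j => X.hc α β h j
           gen := fun F F' hs hc => by
             apply RingHom.ext
             intro b
             have hb : b ∈ Subring.closure (Set.range G.s ∪ Set.range X.x) := by rw [X.gen]; trivial
             induction hb using Subring.closure_induction with
             | mem z hz =>
               rcases hz with ⟨a, rfl⟩ | ⟨j, rfl⟩
               · exact RingHom.congr_fun hs a
               · exact hc j
             | zero => simp
             | one => simp
             | add x y _ _ hx hy => rw [map_add, map_add, hx, hy]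
             | neg x _ hx => rw [map_neg, map_neg, hx]
             | mul x y _ _ hx hy => rw [map_mul, map_mul, hx, hy]
           pres := fun a v hv hp => M.pres _ a v hv hp
           q := M.na
           x := M.a
           x_gen := M.ha
           tx := M.al
           t_x := M.hal
           ig := M.et
           i_g := M.het
           st := hst }⟩

/-- **Node N1** -/
theorem n1 : K412.N1.{u} := n1_of K394.stmtGens K373.stmtMData

end Groth.Agent.ResProp.EF.K743
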