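import Groth.Agent.ResProp.EF.K743.Trans
import Groth.Agent.ResProp.EF.K556.FrameP

/-!
# F7: linear relations of the frame ring
-/

set_option autoImplicit false

universe u

open Groth.Agent.Grpsch.AffGrpd

namespace Groth.Agent.ResProp.EF.K743

open Groth.Agent.ResProp.EF.K556

section

variable {A Γ : Type u} [CommRing A] [CommRing Γ] {G : RGrpd A Γ} {X : Gens G} {m : ℕ} {K : Type u} [Field K]
  {x : A →+* K} (P : PtData G X m x) (R : LRing G x P.r₁ P.r₂)

/-- every arrow `h` from the base point is `g γ`; the values of `g` in coordinates -/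
theorem exists_pair {T T' : Type u} [CommRing T] [CommRing T'] (y₀ : K →+* T) (θ : R.L →+* T)
    (hy : θ.comp R.y = y₀) (f : T →+* T') (h : Γ →+* T') (e : h.comp G.s = (f.comp y₀).comp x) :
    ∃ (g : Γ →+* T') (e₂ : g.comp G.s = ((f.comp θ).comp R.γ).comp G.t),
      G.comp g ((f.comp θ).comp R.γ) e₂ = h ∧
      (∀ j, g (X.x j) = ∑ a, P.w₁ (f.comp y₀) h e a * f (θ (v₁ P R j a))) ∧
      (∀ J, g (X.mon J) = ∑ b, P.w₂ (f.comp y₀) h e b * f (θ (v₂ P R J b))) := by
  subst hy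
  have e0 : h.comp G.s = ((f.comp θ).comp R.γ).comp G.s :=
    e.trans (congrArg (fun k : A →+* R.L => (f.comp θ).comp k) R.hγ).symm
  obtain ⟨e₁, e₂, e₃⟩ := comp_inv' h ((f.comp θ).comp R.γ) e0
  refine ⟨_, e₂, e₃, fun j => ?_, fun J => ?_⟩
  · rw [key₁ P R (f.comp θ) _ e₂ j]
    refine Finset.sum_congr rfl fun b _ => ?_
    have h5 : ∀ (h' : Γ →+* T') (e' : h'.comp G.s = ((f.comp θ).comp R.y).comp x), h' = h →
        P.w₁ ((f.comp θ).comp R.y) h' e' b = P.w₁ (f.comp (θ.comp R.y)) h e b := by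
      intro h' e' hh
      subst hh
      rfl
    rw [h5 _ _ e₃]
    rfl
  · rw [key₂ P R (f.comp θ) _ e₂ J]
    refine Finset.sum_congr rfl fun b _ => ?_
    have h5 : ∀ (h' : Γ →+* T') (e' : h'.comp G.s = ((f.comp θ).comp R.y).comp x), h' = h →
        P.w₂ ((f.comp θ).comp R.y) h' e' b = P.w₂ (f.comp (θ.comp R.y)) h e b := by
      intro h' e' hh
      subst hh
      rfl
    rw [h5 _ _ e₃]
    rfl

end

/-- **F7** -/
theorem stmtRel1 : StmtRel1.{u} := by
  intro A Γ _ _ G X m K _ x P R u hu b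
  apply inc_injective P R
  rw [map_sum, map_zero]
  have h1 : ∀ j, inc P R ((LRing.frameData P R).ι (u j) * (LRing.frameData P R).Q₁ j b) =
      R.γ (G.t (u j)) * LRing.Q₁L P R j b := fun j => map_mul _ _ _
  rw [Finset.sum_congr rfl fun j _ => h1 j]
  have h2 : (fun b' : Fin P.r₁ => ∑ j, R.γ (G.t (u j)) * v₁ P R j b') = 0 := by
    apply P.inj₁ R.y
    intro T' _ f h e
    obtain ⟨g, e₂, -, h3, -⟩ := exists_pair P R R.y (RingHom.id R.L) (RingHom.id_comp _) f h e
    have h4 : ∑ b, P.w₁ (f.comp R.y) h e b * f (∑ j, R.γ (G.t (u j)) * v₁ P R j b) =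
        g (∑ j, G.s (u j) * X.x j) := by
      rw [map_sum]
      simp only [map_mul, h3, map_sum, Finset.mul_sum]
      rw [Finset.sum_comm]
      refine Finset.sum_congr rfl fun j _ => Finset.sum_congr rfl fun b _ => ?_
      have h6 : g (G.s (u j)) = f (R.γ (G.t (u j))) := congrArg (fun k : A →+* T' => k (u j)) e₂
      rw [h6, RingHom.id_apply]
      ring
    rw [h4, hu, map_zero]
  have h7 : ∀ b : Fin P.r₁, ∑ j, R.γ (G.t (u j)) * LRing.Q₁L P R j b = 0 := by
    intro b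
    simp only [Q₁L_eq, Finset.mul_sum]
    rw [Finset.sum_comm]
    apply Finset.sum_eq_zero
    intro b' _
    have h3 := congrFun h2 b'
    simp only [Pi.zero_apply] at h3
    have h4 : ∀ j, R.γ (G.t (u j)) * (R.l₁.1 b b' * v₁ P R j b') =
        R.l₁.1 b b' * (R.γ (G.t (u j)) * v₁ P R j b') := fun j => by ring
    rw [Finset.sum_congr rfl fun j _ => h4 j, ← Finset.mul_sum]
    rw [h3, mul_zero]
  exact h7 b

end Groth.Agent.ResProp.EF.K743
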