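import Groth.Agent.ResProp.EF.K743.Rel1
import Groth.Agent.ResProp.EF.K213.Act

/-!
# F8: theta is invariant
-/

set_option autoImplicit false

universe u

open Groth.Agent.Grpsch.AffGrpd

namespace Groth.Agent.ResProp.EF.K743

open Groth.Agent.ResProp.EF.K556

section

variable {A Γ : Type u} [CommRing A] [CommRing Γ] {G : RGrpd A Γ} {X : Gens G} {m : ℕ} {K : Type u} [Field K]
  {x : A →+* K} (P : PtData G X m x) (R : LRing G x P.r₁ P.r₂)

section two

variable {T : Type u} [CommRing T] (y₀ : K →+* T) (θ θ' : R.L →+* T) (hy : θ.comp R.y = y₀) (hy' : θ'.comp R.y = y₀)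

include hy hy'

/-- the coordinates of `1` -/
theorem inv_one (a : Fin P.r₁) : θ (v₁ P R X.j0 a) = θ' (v₁ P R X.j0 a) := by
  have h0 : (fun a => θ (v₁ P R X.j0 a) - θ' (v₁ P R X.j0 a)) = 0 := by
    apply P.inj₁ y₀
    intro T' _ f h e
    obtain ⟨g, -, -, h3, -⟩ := exists_pair P R y₀ θ hy f h e
    obtain ⟨g', -, -, h3', -⟩ := exists_pair P R y₀ θ' hy' f h e
    have h4 : ∑ a, P.w₁ (f.comp y₀) h e a * f (θ (v₁ P R X.j0 a) - θ' (v₁ P R X.j0 a)) =
        g (X.x X.j0) - g' (X.x X.j0) := by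
      rw [h3, h3', ← Finset.sum_sub_distrib]
      exact Finset.sum_congr rfl fun a _ => by rw [map_sub, mul_sub]
    rw [h4, X.hx0, map_one, map_one, sub_self]
  exact sub_eq_zero.mp (congrFun h0 a)

/-- the coordinates of `t(z)` -/
theorem inv_al (al : (Fin m → Fin X.n) → A) (z : A) (hz : G.t z = ∑ J, G.s (al J) * X.mon J) (b : Fin P.r₂) :
    θ (∑ J, R.γ (G.t (al J)) * v₂ P R J b) = θ' (∑ J, R.γ (G.t (al J)) * v₂ P R J b) := by
  have key : ∀ {T' : Type u} [CommRing T'] (f : T →+* T') (h : Γ →+* T') (e : h.comp G.s = (f.comp y₀).comp x)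
      (ϑ : R.L →+* T) (_ : ϑ.comp R.y = y₀),
      ∑ b, P.w₂ (f.comp y₀) h e b * f (ϑ (∑ J, R.γ (G.t (al J)) * v₂ P R J b)) = h (G.t z) := by
    intro T' _ f h e ϑ hϑ
    obtain ⟨g, e₂, e₃, -, h3⟩ := exists_pair P R y₀ ϑ hϑ f h e
    have e4 : g.comp G.t = h.comp G.t := by rw [← e₃, G.comp_t]
    rw [show h (G.t z) = g (G.t z) from (congrArg (fun k : A →+* T' => k z) e4).symm, hz, map_sum]
    simp only [map_mul, h3, map_sum, Finset.mul_sum]
    rw [Finset.sum_comm]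
    refine Finset.sum_congr rfl fun J _ => Finset.sum_congr rfl fun b _ => ?_
    have h6 : g (G.s (al J)) = f (ϑ (R.γ (G.t (al J)))) := congrArg (fun k : A →+* T' => k (al J)) e₂
    rw [h6]
    ring
  have h0 : (fun b => θ (∑ J, R.γ (G.t (al J)) * v₂ P R J b) - θ' (∑ J, R.γ (G.t (al J)) * v₂ P R J b)) = 0 := by
    apply P.inj₂ y₀
    intro T' _ f h e
    simp only [map_sub, mul_sub, Finset.sum_sub_distrib]
    rw [key f h e θ hy, key f h e θ' hy', sub_self]
  exact sub_eq_zero.mp (congrFun h0 b)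

/-- the coordinates of `(h₁ h₂⁻¹)(x_j)` -/
theorem inv_et (et : Fin X.n → (Fin m → Fin X.n) → A) (j : Fin X.n)
    (het : ∀ k, G.i (X.c k j) = ∑ J, G.s (et k J) * X.mon J) (a : Fin P.r₁) (b : Fin P.r₂) :
    θ (∑ k, ∑ J, R.γ (G.t (et k J)) * v₁ P R k a * v₂ P R J b) =
      θ' (∑ k, ∑ J, R.γ (G.t (et k J)) * v₁ P R k a * v₂ P R J b) := by
  have key : ∀ {T' T'' : Type u} [CommRing T'] [CommRing T''] (f : T →+* T') (f₂ : T' →+* T'') (h : Γ →+* T')
      (e : h.comp G.s = (f.comp y₀).comp x) (h₂ : Γ →+* T'') (e' : h₂.comp G.s = (f₂.comp (f.comp y₀)).comp x)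
      (ϑ : R.L →+* T) (_ : ϑ.comp R.y = y₀),
      ∃ q : (f₂.comp h).comp G.s = (h₂.comp G.i).comp G.t,
      ∑ b, P.w₂ (f₂.comp (f.comp y₀)) h₂ e' b * f₂ (∑ a, P.w₁ (f.comp y₀) h e a *
        f (ϑ (∑ k, ∑ J, R.γ (G.t (et k J)) * v₁ P R k a * v₂ P R J b))) =
        G.comp (f₂.comp h) (h₂.comp G.i) q (X.x j) := by
    intro T' T'' _ _ f f₂ h e h₂ e' ϑ hϑ
    obtain ⟨g, eg, e₃, h3, -⟩ := exists_pair P R y₀ ϑ hϑ f h e
    obtain ⟨g₂, eg₂, e₃', -, h3'⟩ := exists_pair P R y₀ ϑ hϑ (f₂.comp f) h₂ e'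
    -- `g g₂⁻¹ = h h₂⁻¹`
    set γ : Γ →+* T'' := (f₂.comp (f.comp ϑ)).comp R.γ with hγ
    have q1 : (f₂.comp g).comp G.s = (g₂.comp G.i).comp G.t := by
      rw [K213.tgt_i, eg₂, RingHom.comp_assoc, eg]
      rfl
    have q2 : (f₂.comp h).comp G.s = (h₂.comp G.i).comp G.t := by
      rw [K213.tgt_i, e', RingHom.comp_assoc, e]
      rfl
    refine ⟨q2, ?_⟩
    have q3 : G.comp (f₂.comp g) (g₂.comp G.i) q1 = G.comp (f₂.comp h) (h₂.comp G.i) q2 := by
      have s1 : (f₂.comp g).comp G.s = γ.comp G.t := by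
        rw [RingHom.comp_assoc, eg]
        rfl
      have s2 : f₂.comp h = G.comp (f₂.comp g) γ s1 := by
        rw [← e₃]
        exact G.comp_nat _ _ _ _
      have s3 : g₂.comp G.s = γ.comp G.t := eg₂
      have s4 : h₂ = G.comp g₂ γ s3 := e₃'.symm
      subst s4
      have s5 : (G.comp g₂ γ s3).comp G.i = G.comp (γ.comp G.i) (g₂.comp G.i)
          (by rw [K213.src_i, K213.tgt_i, s3]) := K213.comp_i_eq G _ _ _ _
      have s6 : G.comp (f₂.comp h) ((G.comp g₂ γ s3).comp G.i) q2 =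
          G.comp (G.comp (f₂.comp g) γ s1) (G.comp (γ.comp G.i) (g₂.comp G.i) (by rw [K213.src_i, K213.tgt_i, s3]))
            (by rw [G.comp_s, G.comp_t, K213.tgt_i]) := K213.comp_congr G s2 s5 _ _
      rw [s6]
      have s7 := G.assoc (G.comp (f₂.comp g) γ s1) (γ.comp G.i) (g₂.comp G.i)
        (by rw [G.comp_s, K213.tgt_i]) (by rw [K213.src_i, K213.tgt_i, s3])
      rw [← s7]
      refine K213.comp_congr G ?_ rfl _ _
      rw [G.assoc (f₂.comp g) γ (γ.comp G.i) s1 (by rw [K213.tgt_i])]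
      rw [K213.comp_congr G rfl (G.comp_i γ) _ (by rw [K213.tgt_e]; exact s1)]
      exact (K213.comp_e' G _ _ s1.symm _).symm
    rw [← q3, X.hc]
    have t1 : ∀ k, (f₂.comp g) (X.x k) = ∑ a, f₂ (P.w₁ (f.comp y₀) h e a) * f₂ (f (ϑ (v₁ P R k a))) := by
      intro k
      rw [RingHom.comp_apply, h3, map_sum]
      exact Finset.sum_congr rfl fun a _ => map_mul _ _ _
    have t2 : ∀ k, (g₂.comp G.i) (X.c k j) = ∑ J, f₂ (f (ϑ (R.γ (G.t (et k J))))) *
        ∑ b, P.w₂ (f₂.comp (f.comp y₀)) h₂ e' b * f₂ (f (ϑ (v₂ P R J b))) := by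
      intro k
      rw [RingHom.comp_apply, het, map_sum]
      refine Finset.sum_congr rfl fun J _ => ?_
      rw [map_mul]
      exact congrArg₂ (· * ·) (congrArg (fun k' : A →+* T'' => k' (et k J)) eg₂) (h3' J)
    simp only [t1, t2, map_sum, map_mul, Finset.mul_sum, Finset.sum_mul]
    rw [Finset.sum_comm]
    refine Eq.trans (Finset.sum_congr rfl fun a _ => Finset.sum_comm) ?_
    refine Eq.trans Finset.sum_comm ?_
    refine Finset.sum_congr rfl fun k _ => ?_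
    refine Eq.trans (Finset.sum_congr rfl fun a _ => Finset.sum_comm) ?_
    refine Eq.trans Finset.sum_comm ?_
    refine Finset.sum_congr rfl fun J _ => ?_
    refine Eq.trans Finset.sum_comm ?_
    exact Finset.sum_congr rfl fun b _ => Finset.sum_congr rfl fun a _ => by ring
  set E : Fin P.r₁ → Fin P.r₂ → R.L := fun a b => ∑ k, ∑ J, R.γ (G.t (et k J)) * v₁ P R k a * v₂ P R J b with hE
  have h0 : ∀ b, (fun a => θ (E a b) - θ' (E a b)) = 0 := by
    intro b
    apply P.inj₁ y₀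
    intro T' _ f h e
    have h1 : (fun b => ∑ a, P.w₁ (f.comp y₀) h e a * f (θ (E a b) - θ' (E a b))) = 0 := by
      apply P.inj₂ (f.comp y₀)
      intro T'' _ f₂ h₂ e'
      simp only [map_sub, mul_sub, Finset.sum_sub_distrib]
      obtain ⟨q, hq⟩ := key f f₂ h e h₂ e' θ hy
      obtain ⟨q', hq'⟩ := key f f₂ h e h₂ e' θ' hy'
      exact sub_eq_zero.mpr (hq.trans hq'.symm)
    exact congrFun h1 b
  exact sub_eq_zero.mp (congrFun (h0 b) a)

end two

/-- an element of `L` which does not depend on the arrow -/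
def LInv (z : R.L) : Prop := ∀ (T : Type u) [CommRing T] (θ θ' : R.L →+* T), θ.comp R.y = θ'.comp R.y →
  (∀ i j, θ (R.l₁.1 i j) = θ' (R.l₁.1 i j)) → (∀ i j, θ (R.l₂.1 i j) = θ' (R.l₂.1 i j)) → θ z = θ' z

theorem linv_one (a : Fin P.r₁) : LInv P R (LRing.Q₁L P R X.j0 a) := by
  intro T _ θ θ' hy h1 _
  rw [Q₁L_eq, map_sum, map_sum]
  refine Finset.sum_congr rfl fun a' _ => ?_
  rw [map_mul, map_mul, h1, inv_one P R _ θ θ' rfl hy.symm]

theorem linv_al (al : (Fin m → Fin X.n) → A) (z : A) (hz : G.t z = ∑ J, G.s (al J) * X.mon J) (b : Fin P.r₂) :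
    LInv P R (∑ J, R.γ (G.t (al J)) * Q₂L P R J b) := by
  intro T _ θ θ' hy _ h2
  have h0 : ∑ J, R.γ (G.t (al J)) * Q₂L P R J b = ∑ b', R.l₂.1 b b' * ∑ J, R.γ (G.t (al J)) * v₂ P R J b' := by
    simp only [Q₂L_eq, Finset.mul_sum]
    rw [Finset.sum_comm]
    exact Finset.sum_congr rfl fun b' _ => Finset.sum_congr rfl fun J _ => by ring
  rw [h0, map_sum, map_sum]
  refine Finset.sum_congr rfl fun b' _ => ?_
  rw [map_mul, map_mul, h2, inv_al P R _ θ θ' rfl hy.symm al z hz]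

theorem linv_et (et : Fin X.n → (Fin m → Fin X.n) → A) (j : Fin X.n)
    (het : ∀ k, G.i (X.c k j) = ∑ J, G.s (et k J) * X.mon J) (a : Fin P.r₁) (b : Fin P.r₂) :
    LInv P R (∑ k, ∑ J, R.γ (G.t (et k J)) * LRing.Q₁L P R k a * Q₂L P R J b) := by
  intro T _ θ θ' hy h1 h2
  have h0 : ∑ k, ∑ J, R.γ (G.t (et k J)) * LRing.Q₁L P R k a * Q₂L P R J b =
      ∑ a', ∑ b', R.l₁.1 a a' * R.l₂.1 b b' * ∑ k, ∑ J, R.γ (G.t (et k J)) * v₁ P R k a' * v₂ P R J b' := by
    simp only [Q₁L_eq, Q₂L_eq, Finset.mul_sum, Finset.sum_mul]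
    -- k J a' b' versus a' b' k J
    refine Eq.trans (Finset.sum_congr rfl fun k _ => Finset.sum_congr rfl fun J _ => Finset.sum_comm) ?_
    refine Eq.trans (Finset.sum_congr rfl fun k _ => Finset.sum_comm) ?_
    refine Eq.trans Finset.sum_comm ?_
    refine Finset.sum_congr rfl fun a' _ => ?_
    refine Eq.trans (Finset.sum_congr rfl fun k _ => Finset.sum_comm) ?_
    refine Eq.trans Finset.sum_comm ?_
    exact Finset.sum_congr rfl fun b' _ => Finset.sum_congr rfl fun k _ => Finset.sum_congr rfl fun J _ => by ring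
  rw [h0, map_sum, map_sum]
  refine Finset.sum_congr rfl fun a' _ => ?_
  rw [map_sum, map_sum]
  refine Finset.sum_congr rfl fun b' _ => ?_
  rw [map_mul, map_mul, map_mul, map_mul, h1, h2, inv_et P R _ θ θ' rfl hy.symm et j het]

variable {P R}

theorem act_of_linv (AD : K213.ActData (LRing.frameData P R)) (hs : G.s.Flat) (z : (LRing.frameData P R).D)
    (hz : LInv P R (K213.jD P R z)) {T : Type u} [CommRing T] (σ : Γ →+* T) (φ : (LRing.frameData P R).D →+* T)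
    (h : σ.comp G.s = φ.comp (LRing.frameData P R).ι) : AD.act σ φ h z = φ z := by
  obtain ⟨U⟩ := K213.nonempty_push (LRing.frameData P R).ι (K213.jD P R) (K213.jD_injective P R) G.s hs
  have hu : U.p2.comp G.s = U.p1.comp (LRing.frameData P R).ι := U.hp.symm
  have hp2 : ∀ z, U.j2 (U.p2 z) = U.q2 z := fun z => RingHom.congr_fun U.j2p2 z
  have hp1 : ∀ z, U.j2 (U.p1 z) = U.q1 (K213.jD P R z) := fun z => RingHom.congr_fun U.j2p1 z
  have e1 : U.j2.comp (AD.act U.p2 U.p1 hu) = (K213.actL P R U.q2 U.q1 (K213.PU.h U)).comp (K213.jD P R) := by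
    apply K213.hom_ext
    · ext a
      have h1 := RingHom.congr_fun (AD.act_ι U.p2 U.p1 hu) a
      refine (congrArg U.j2 h1).trans ?_
      exact (hp2 (G.t a)).trans (K213.actL_t P _ _ _ a).symm
    · intro j a
      refine (congrArg U.j2 (AD.act_Q₁ U.p2 U.p1 hu j a)).trans ?_
      refine Eq.trans ?_ (K213.actL_Q₁ P _ _ _ j a).symm
      rw [map_sum]
      refine Finset.sum_congr rfl fun k _ => ?_
      rw [map_mul, hp2, hp1]
      rfl
    · intro κ b
      refine (congrArg U.j2 (AD.act_μ U.p2 U.p1 hu κ b)).trans ?_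
      exact (hp1 _).trans (K213.actL_μ P _ _ _ κ b).symm
  have e2 : AD.act U.p2 U.p1 hu z = U.p1 z := by
    apply U.inj
    refine (RingHom.congr_fun e1 z).trans ?_
    refine (hz _ (K213.actL P R U.q2 U.q1 (K213.PU.h U)) U.q1 (K213.actL_y P _ _ _) (K213.actL_l₁ P _ _ _)
      (K213.actL_l₂ P _ _ _)).trans (hp1 z).symm
  obtain ⟨f, hf1, hf2⟩ := U.lift φ σ h.symm
  have e3 : AD.act σ φ h = f.comp (AD.act U.p2 U.p1 hu) := by
    apply K213.hom_ext
    · rw [AD.act_ι, RingHom.comp_assoc, AD.act_ι, ← RingHom.comp_assoc, hf2]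
    · intro j a
      rw [AD.act_Q₁, RingHom.comp_apply, AD.act_Q₁, map_sum]
      refine Finset.sum_congr rfl fun k _ => ?_
      rw [map_mul, ← hf1, ← hf2]
      rfl
    · intro κ b
      rw [AD.act_μ, RingHom.comp_apply, AD.act_μ, ← hf1]
      rfl
  rw [e3, RingHom.comp_apply, e2]
  exact RingHom.congr_fun hf1 z

end

/-- **F8** -/
theorem stmtThetaInv : StmtThetaInv.{u} := by
  intro Lb A B _ _ _ _ G D K _ x P R hs F hF
  have key : ∀ (F0 : FrameData G (toGens D) D.m) (AD : K213.ActData F0), F0 = LRing.frameData P R →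
      ∀ {T : Type u} [CommRing T] (σ : B →+* T) (φ : F0.D →+* T) (h : σ.comp G.s = φ.comp F0.ι),
      (∀ a, AD.act σ φ h (F0.Q₁ D.i0 a) = φ (F0.Q₁ D.i0 a)) ∧
      (∀ l b, AD.act σ φ h (∑ J, F0.ι (D.tx l J) * F0.Q₂ J b) = φ (∑ J, F0.ι (D.tx l J) * F0.Q₂ J b)) ∧
      (∀ j a b, AD.act σ φ h (∑ k, ∑ J, F0.ι (D.ig k j J) * F0.Q₁ k a * F0.Q₂ J b) =
        φ (∑ k, ∑ J, F0.ι (D.ig k j J) * F0.Q₁ k a * F0.Q₂ J b)) := by
    intro F0 AD hF0
    subst hF0
    intro T _ σ φ h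
    refine ⟨fun a => act_of_linv AD hs _ (linv_one P R a) σ φ h, fun l b => act_of_linv AD hs _ ?_ σ φ h,
      fun j a b => act_of_linv AD hs _ ?_ σ φ h⟩
    · have h2 : K213.jD P R (∑ J, (LRing.frameData P R).ι (D.tx l J) * (LRing.frameData P R).Q₂ J b) =
          ∑ J, R.γ (G.t (D.tx l J)) * Q₂L P R J b := by
        refine (map_sum _ _ _).trans (Finset.sum_congr rfl fun J _ => ?_)
        refine (map_mul _ _ _).trans ?_
        exact congrArg (R.γ (G.t (D.tx l J)) * ·) (inc_Q₂ P R J b)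
      rw [h2]
      exact linv_al P R (D.tx l) (D.x l) (D.t_x l) b
    · have h2 : K213.jD P R (∑ k, ∑ J, (LRing.frameData P R).ι (D.ig k j J) * (LRing.frameData P R).Q₁ k a *
          (LRing.frameData P R).Q₂ J b) =
          ∑ k, ∑ J, R.γ (G.t (D.ig k j J)) * LRing.Q₁L P R k a * Q₂L P R J b := by
        refine (map_sum _ _ _).trans (Finset.sum_congr rfl fun k _ => ?_)
        refine (map_sum _ _ _).trans (Finset.sum_congr rfl fun J _ => ?_)
        refine (map_mul _ _ _).trans ?_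
        exact congrArg₂ (· * ·) (map_mul _ _ _) (inc_Q₂ P R J b)
      rw [h2]
      exact linv_et P R (fun k => D.ig k j) j (fun k => D.i_g k j) a b
  intro T _ σ φ h
  exact key F.toFrameData {
    act := @F.act
    act_ι := @F.act_ι
    act_Q₁ := @F.act_Q₁
    act_μ := @F.act_μ
    act_id := @F.act_id
    act_comp := @F.act_comp } hF σ φ h

end Groth.Agent.ResProp.EF.K743
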