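import Groth.Agent.ResProp.EF.K743.AsmN2
import Groth.Agent.ResProp.EF.K743.Rel1
import Groth.Agent.ResProp.EF.K743.ThetaInv
import Groth.Agent.ResProp.EF.K803.LRing
import Groth.Agent.ResProp.EF.K484.PtData
import Groth.Agent.ResProp.EF.K213.Frame
import Groth.Agent.ResProp.EF.K655.GLAct
import Groth.Agent.ResProp.EF.K119.Pt

/-!
# Node N2: the frame ring
-/

set_option autoImplicit false

universe u

open Groth.Agent.Grpsch.AffGrpd

namespace Groth.Agent.ResProp.EF.K743

/-- **Node N2** -/
theorem n2 {Lb A B : Type u} [CommRing Lb] [CommRing A] [CommRing B] [Algebra Lb A] {G : RGrpd A B}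
    (D : K412.Gen Lb G) : K412.N2 D :=
  n2_of K803.stmtLRing K484.stmtPtData K213.stmtFrame stmtRel1 stmtThetaInv K655.stmtGLAct K119.stmtPt D

end Groth.Agent.ResProp.EF.K743
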