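import Groth.Agent.ResProp.EF.K743.Trans
import Groth.Agent.ResProp.EF.K761.Minors
import Groth.Agent.ResProp.EF.K884.Mono

/-!
# `K412.N2` from the nodes of team B
-/

set_option autoImplicit false

universe u

open Groth.Agent.Grpsch.AffGrpd

namespace Groth.Agent.ResProp.EF.K743

variable {A B : Type u} [CommRing A] [CommRing B] {Lb : Type u} [CommRing Lb] [Algebra Lb A] {G : RGrpd A B}

section Lin

variable {T : Type u} [CommRing T]

/-- a functional which satisfies Cramer's identities factors through a right invertible matrix -/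
theorem exists_functional {J : Type} [Fintype J] [DecidableEq J] {r : ℕ} (N : J → Fin r → T)
    (hS : ∃ S : Matrix J (Fin r) T, (Matrix.of fun (b : Fin r) (j : J) => N j b) * S = 1) (w : J → T)
    (hw : ∀ (I : Fin r → J) (j : J), (K884.sub N I).det * w j =
      ∑ i, (K884.sub N (Function.update I i j)).det * w (I i)) :
    ∃ u : Fin r → T, ∀ j, ∑ b, u b * N j b = w j := by
  obtain ⟨S, hS⟩ := hS
  have h1 := K761.span_minors_eq_top _ S hS
  obtain ⟨c, hc⟩ := (Ideal.mem_span_range_iff_exists_fun).mp ((Ideal.eq_top_iff_one _).mp h1)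
  have hc' : ∑ I, c I * (K884.sub N I).det = 1 := by
    rw [← hc]
    refine Finset.sum_congr rfl fun I _ => ?_
    congr 1
    rw [← Matrix.det_transpose]
    rfl
  refine ⟨fun a => ∑ k, K884.linv N c a k * w k, fun j => ?_⟩
  rw [K884.eq_of_cramer hc' w hw j]
  exact Finset.sum_congr rfl fun b _ => mul_comm _ _

end Lin

section Asm

variable (D : K412.Gen Lb G) (F : Frame G (toGens D) D.m)

theorem frPt_closed
    (hrel : ∀ u : Fin D.n → A, ∑ j, G.s (u j) * D.c j = 0 → ∀ a, ∑ j, F.ι (u j) * F.Q₁ j a = 0) :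
    K412.IsFrC (frPt D F.toFrameData) where
  hmu b J := Finset.sum_congr rfl fun κ _ => mul_comm _ _
  rel1 u hu b := by
    have := hrel u hu b
    rw [← this]
    exact Finset.sum_congr rfl fun j _ => mul_comm _ _
  relm u hu b := by
    have := F.P4 u hu b
    rw [← this]
    exact Finset.sum_congr rfl fun j _ => mul_comm _ _

theorem isFrC_map {K K' : Type u} [CommRing K] [CommRing K'] {r1 rm : ℕ} {P : K412.FrPt D r1 rm K}
    (h : K412.IsFrC P) (f : K →+* K') : K412.IsFrC (P.map f) where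
  hmu b J := by
    change f (P.Mm b J) = ∑ Q : Fin D.m → Fin r1, f (P.mu b Q) * ∏ k, f (P.M (Q k) (J k))
    rw [h.hmu, map_sum]
    refine Finset.sum_congr rfl fun Q _ => ?_
    rw [map_mul, map_prod]
  rel1 u hu b := by
    change ∑ j, f (P.M b j) * f (P.a (u j)) = 0
    rw [← map_zero f, ← h.rel1 u hu b, map_sum]
    exact Finset.sum_congr rfl fun j _ => (map_mul f _ _).symm
  relm u hu b := by
    change ∑ J, f (P.Mm b J) * f (P.a (u J)) = 0
    rw [← map_zero f, ← h.relm u hu b, map_sum]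
    exact Finset.sum_congr rfl fun j _ => (map_mul f _ _).symm

variable {T : Type u} [CommRing T]

theorem isFr_of (hC : K412.IsFrC (frPt D F.toFrameData)) (ψ : F.D →+* T)
    (h1 : ∃ S : Matrix (Fin D.n) (Fin F.r₁) T, ((frPt D F.toFrameData).map ψ).M * S = 1)
    (h2 : ∃ S : Matrix (Fin D.m → Fin D.n) (Fin F.r₂) T, ((frPt D F.toFrameData).map ψ).Mm * S = 1) :
    K412.IsFr ((frPt D F.toFrameData).map ψ) := by
  have hh : ((ψ.comp F.ι).comp G.e).comp G.s = ψ.comp F.ι := by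
    rw [RingHom.comp_assoc, G.e_s, RingHom.comp_id]
  refine { toIsFrC := isFrC_map D hC ψ, sur1 := h1, surm := h2, ep1 := ?_, epm := ?_ }
  · refine exists_functional (fun j b => ψ (F.Q₁ j b)) h1 (fun j => (ψ.comp F.ι).comp G.e (D.c j)) fun I j => ?_
    have := F.P1 ψ ((ψ.comp F.ι).comp G.e) hh I j
    have d1 : ∀ I, (K884.sub (fun j a => ψ (F.Q₁ j a)) I).det = ψ (F.m₁ I) := by
      intro I
      rw [FrameData.m₁, RingHom.map_det]
      rfl
    rw [d1]
    simp only [d1]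
    exact this
  · refine exists_functional (fun J b => ψ (F.Q₂ J b)) h2
      (fun J => (ψ.comp F.ι).comp G.e (K412.mon D.c J)) fun I J => ?_
    have := F.P2 ψ ((ψ.comp F.ι).comp G.e) hh I J
    have d2 : ∀ I, (K884.sub (fun J b => ψ (F.Q₂ J b)) I).det = ψ (F.m₂ I) := by
      intro I
      rw [FrameData.m₂, RingHom.map_det]
      rfl
    rw [d2]
    simp only [d2]
    exact this

theorem map_Q₂ {R : Type u} [CommRing R] (φ : F.D →+* R) (J : Fin D.m → Fin D.n) (b : Fin F.r₂) :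
    φ (F.Q₂ J b) = ∑ κ : Fin D.m → Fin F.r₁, (∏ i, φ (F.Q₁ (J i) (κ i))) * φ (F.μ κ b) := by
  simp only [FrameData.Q₂, map_sum, map_mul, map_prod]

theorem act_Q₂ (γ : B →+* T) (ψ : F.D →+* T) (h : γ.comp G.s = ψ.comp F.ι) (J : Fin D.m → Fin D.n) (b : Fin F.r₂) :
    F.act γ ψ h (F.Q₂ J b) = ∑ I : Fin D.m → Fin D.n, ψ (F.Q₂ I b) * ∏ k, γ (G.i (D.g (I k) (J k))) := by
  rw [map_Q₂]
  have h1 : ∀ κ : Fin D.m → Fin F.r₁, (∏ i, F.act γ ψ h (F.Q₁ (J i) (κ i))) =
      ∑ I : Fin D.m → Fin D.n, ∏ i, (γ (G.i (D.g (I i) (J i))) * ψ (F.Q₁ (I i) (κ i))) := by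
    intro κ
    rw [← K884.prod_sum' (fun i k => γ (G.i (D.g k (J i))) * ψ (F.Q₁ k (κ i)))]
    exact Finset.prod_congr rfl fun i _ => F.act_Q₁ γ ψ h (J i) (κ i)
  simp only [h1, F.act_μ, Finset.sum_mul]
  rw [Finset.sum_comm]
  refine Finset.sum_congr rfl fun I _ => ?_
  rw [map_Q₂, Finset.sum_mul]
  refine Finset.sum_congr rfl fun κ _ => ?_
  rw [Finset.prod_mul_distrib]
  ring

theorem sum_prod_mul_prod {m r : ℕ} {Y X : Matrix (Fin r) (Fin r) T} (h : Y * X = 1) (κ J : Fin m → Fin r) :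
    ∑ Q : Fin m → Fin r, (∏ i, Y (κ i) (Q i)) * ∏ i, X (Q i) (J i) = if κ = J then 1 else 0 := by
  simp only [← Finset.prod_mul_distrib]
  rw [← K884.prod_sum' (fun i q => Y (κ i) q * X q (J i))]
  have h1 : ∀ i, ∑ q, Y (κ i) q * X q (J i) = if κ i = J i then 1 else 0 := by
    intro i
    rw [← Matrix.mul_apply, h, Matrix.one_apply]
  simp only [h1]
  split_ifs with hh
  · subst hh
    simp
  · obtain ⟨i, hi⟩ := Function.ne_iff.mp hh
    exact Finset.prod_eq_zero (Finset.mem_univ i) (if_neg hi)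

theorem map_m₁ {X : Gens G} {m : ℕ} (F : FrameData G X m) (φ : F.D →+* T) (I : Fin F.r₁ → Fin X.n) :
    φ (F.m₁ I) = ((Matrix.of fun (b : Fin F.r₁) (j : Fin X.n) => φ (F.Q₁ j b)).submatrix id I).det := by
  rw [← Matrix.det_transpose, FrameData.m₁, RingHom.map_det]
  rfl

theorem map_m₂ {X : Gens G} {m : ℕ} (F : FrameData G X m) (φ : F.D →+* T) (I : Fin F.r₂ → Fin m → Fin X.n) :
    φ (F.m₂ I) = ((Matrix.of fun (b : Fin F.r₂) (J : Fin m → Fin X.n) => φ (F.Q₂ J b)).submatrix id I).det := by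
  rw [← Matrix.det_transpose, FrameData.m₂, RingHom.map_det]
  rfl

/-- the frame ring of team A from the nodes of team B, over a given frame -/
theorem frRing_of {k : Type u} [Field k] (x : A →+* k)
    (GA : GLAct F.toFrameData)
    (hrel : ∀ u : Fin D.n → A, ∑ j, G.s (u j) * D.c j = 0 → ∀ a, ∑ j, F.ι (u j) * F.Q₁ j a = 0)
    (hpt : ∃ pt : F.D →+* k, pt.comp F.ι = x ∧ F.InW pt)
    (hinv : ∀ {T : Type u} [CommRing T] (σ : B →+* T) (φ : F.D →+* T) (h : σ.comp G.s = φ.comp F.ι),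
      (∀ a, F.act σ φ h (F.Q₁ D.i0 a) = φ (F.Q₁ D.i0 a)) ∧
      (∀ l b, F.act σ φ h (∑ J, F.ι (D.tx l J) * F.Q₂ J b) = φ (∑ J, F.ι (D.tx l J) * F.Q₂ J b)) ∧
      (∀ j a b, F.act σ φ h (∑ k, ∑ J, F.ι (D.ig k j J) * F.Q₁ k a * F.Q₂ J b) =
        φ (∑ k, ∑ J, F.ι (D.ig k j J) * F.Q₁ k a * F.Q₂ J b))) :
    Nonempty (K412.FrRing D x) := by
  have hC := frPt_closed D F hrel
  refine ⟨{
    r1 := F.r₁
    rm := F.r₂
    R := F.D
    P := frPt D F.toFrameData
    gen := ?_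
    closed := hC
    ep := fun ψ h1 h2 => isFr_of D F hC ψ h1 h2
    act := ?_
    gact := ?_
    pt := ?_ }⟩
  · rw [eq_top_iff, ← F.gen]
    refine Subring.closure_mono ?_
    rintro z ((⟨a, rfl⟩ | ⟨p, rfl⟩) | ⟨p, rfl⟩)
    · exact Or.inl (Or.inl (Or.inl ⟨a, rfl⟩))
    · exact Or.inl (Or.inl (Or.inr ⟨(p.2, p.1), rfl⟩))
    · exact Or.inr ⟨(p.2, p.1), rfl⟩
  · intro T _ ψ γ hγ'
    have hγ : γ.comp G.s = ψ.comp F.ι := hγ'
    obtain ⟨h0, h2, h3⟩ := hinv γ ψ hγ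
    refine ⟨F.act γ ψ hγ, { src := hγ, tgt := (F.act_ι γ ψ hγ).symm, hM := ?_, hMm := ?_, hmu := ?_ },
      { th0 := ?_, th1 := ?_, th2 := ?_, th3 := ?_, thL := ?_ }⟩
    · intro b j
      exact (F.act_Q₁ γ ψ hγ j b).trans (Finset.sum_congr rfl fun i _ => mul_comm _ _)
    · intro b J
      exact act_Q₂ D F γ ψ hγ J b
    · ext b Q
      exact F.act_μ γ ψ hγ Q b
    · intro b
      exact (h0 b).symm
    · ext b Q
      exact (F.act_μ γ ψ hγ Q b).symm
    · intro l b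
      have e : ∀ φ : F.D →+* T, φ (∑ J, F.ι (D.tx l J) * F.Q₂ J b) = ∑ J, φ (F.Q₂ J b) * φ (F.ι (D.tx l J)) := by
        intro φ
        refine (map_sum φ _ _).trans (Finset.sum_congr rfl fun J _ => ?_)
        exact (map_mul φ _ _).trans (mul_comm _ _)
      exact (e ψ).symm.trans ((h2 l b).symm.trans (e (F.act γ ψ hγ)))
    · intro j a b
      have e : ∀ φ : F.D →+* T, φ (∑ k, ∑ J, F.ι (D.ig k j J) * F.Q₁ k a * F.Q₂ J b) =
          ∑ i, φ (F.Q₁ i a) * ∑ J, φ (F.Q₂ J b) * φ (F.ι (D.ig i j J)) := by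
        intro φ
        refine (map_sum φ _ _).trans (Finset.sum_congr rfl fun i _ => ?_)
        refine (map_sum φ _ _).trans (Eq.trans (Finset.sum_congr rfl fun J _ => ?_) (Finset.mul_sum _ _ _).symm)
        rw [map_mul, map_mul]
        ring
      exact (e ψ).symm.trans ((h3 j a b).symm.trans (e (F.act γ ψ hγ)))
    · intro l
      change ψ (F.ι (algebraMap Lb A l)) = F.act γ ψ hγ (F.ι (algebraMap Lb A l))
      have h4 := congrArg (fun f : A →+* T => f (algebraMap Lb A l)) (F.act_ι γ ψ hγ)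
      have h5 := congrArg (fun f : A →+* T => f (algebraMap Lb A l)) hγ
      simp only [RingHom.comp_apply] at h4 h5
      rw [h4, ← D.st, h5]
  · intro T _ ψ X Xm hX hXm
    set g₁ : GL (Fin F.r₁) T := hX.unit⁻¹ with hg₁
    set g₂ : GL (Fin F.r₂) T := hXm.unit⁻¹ with hg₂
    have e1 : (g₁⁻¹).1 = X := by rw [hg₁, _root_.inv_inv]; rfl
    have e2 : (g₂⁻¹).1 = Xm := by rw [hg₂, _root_.inv_inv]; rfl
    have e3 : g₁.1 * X = 1 := by rw [← e1]; exact Units.mul_inv g₁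
    have hQ : ∀ (j : Fin D.n) (a : Fin F.r₁), GA.gact g₁ g₂ ψ (F.Q₁ j a) = ∑ a', X a a' * ψ (F.Q₁ j a') := by
      intro j a
      rw [← e1]
      exact GA.gact_Q₁ g₁ g₂ ψ j a
    have hμ : ∀ (κ : Fin D.m → Fin F.r₁) (b : Fin F.r₂), GA.gact g₁ g₂ ψ (F.μ κ b) =
        ∑ b', ∑ κ' : Fin D.m → Fin F.r₁, Xm b b' * ψ (F.μ κ' b') * ∏ i, g₁.1 (κ' i) (κ i) := by
      intro κ b
      rw [← e2]
      exact GA.gact_μ g₁ g₂ ψ κ b
    have key : ∀ (b : Fin F.r₂) (J : Fin D.m → Fin F.r₁),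
        ∑ Q : Fin D.m → Fin F.r₁, GA.gact g₁ g₂ ψ (F.μ Q b) * ∏ i, X (Q i) (J i) = ∑ b', Xm b b' * ψ (F.μ J b') := by
      intro b J
      simp only [hμ, Finset.sum_mul]
      rw [Finset.sum_comm]
      refine Finset.sum_congr rfl fun b' _ => ?_
      rw [Finset.sum_comm]
      simp only [mul_assoc, ← Finset.mul_sum]
      congr 1
      simp only [sum_prod_mul_prod e3]
      simp
    refine ⟨GA.gact g₁ g₂ ψ, { ha := GA.gact_ι g₁ g₂ ψ, hM := ?_, hMm := ?_, hmu := ?_ }⟩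
    · ext b j
      exact hQ j b
    · ext b J
      change GA.gact g₁ g₂ ψ (F.Q₂ J b) = ∑ b', Xm b b' * ψ (F.Q₂ J b')
      rw [map_Q₂]
      have h1 : ∀ κ : Fin D.m → Fin F.r₁, (∏ i, GA.gact g₁ g₂ ψ (F.Q₁ (J i) (κ i))) =
          ∑ σ : Fin D.m → Fin F.r₁, (∏ i, X (κ i) (σ i)) * ∏ i, ψ (F.Q₁ (J i) (σ i)) := by
        intro κ
        simp only [hQ]
        rw [K884.prod_sum' (fun i a' => X (κ i) a' * ψ (F.Q₁ (J i) a'))]
        exact Finset.sum_congr rfl fun σ _ => Finset.prod_mul_distrib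
      simp only [h1, Finset.sum_mul]
      rw [Finset.sum_comm]
      have h2 : ∀ σ : Fin D.m → Fin F.r₁, ∑ κ : Fin D.m → Fin F.r₁,
          (∏ i, X (κ i) (σ i)) * (∏ i, ψ (F.Q₁ (J i) (σ i))) * GA.gact g₁ g₂ ψ (F.μ κ b) =
          (∏ i, ψ (F.Q₁ (J i) (σ i))) * ∑ b', Xm b b' * ψ (F.μ σ b') := by
        intro σ
        rw [← key b σ, Finset.mul_sum]
        exact Finset.sum_congr rfl fun κ _ => by ring
      simp only [h2, Finset.mul_sum]
      rw [Finset.sum_comm]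
      refine Finset.sum_congr rfl fun b' _ => ?_
      rw [map_Q₂, Finset.mul_sum]
      exact Finset.sum_congr rfl fun σ _ => by ring
    · intro b J
      exact key b J
  · obtain ⟨pt, hp1, hp2⟩ := hpt
    refine ⟨pt, hp1, ?_⟩
    refine (K761.exists_mul_eq_one_pair_iff ((frPt D F.toFrameData).map pt).M ((frPt D F.toFrameData).map pt).Mm).mpr ?_
    rw [FrameData.InW] at hp2
    rw [← hp2]
    congr 2
    funext I
    exact ((map_mul pt _ _).trans (congrArg₂ (· * ·) (map_m₁ F.toFrameData pt I.1)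
      (map_m₂ F.toFrameData pt I.2))).symm

end Asm

/-- **N2 from team B's nodes** -/
theorem n2_of (hL : StmtLRing.{u}) (hP : StmtPtData.{u}) (hF : StmtFrame.{u}) (hR : StmtRel1.{u})
    (hI : StmtThetaInv.{u}) (hG : StmtGLAct.{u}) (hpt : StmtPt.{u}) {Lb A B : Type u} [CommRing Lb] [CommRing A]
    [CommRing B] [Algebra Lb A] {G : RGrpd A B} (D : K412.Gen Lb G) : K412.N2 D := by
  intro hs k _ x
  obtain ⟨P⟩ := hP G (toGens D) D.m x
  obtain ⟨R⟩ := hL G x P.r₁ P.r₂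
  obtain ⟨F, hFe⟩ := hF G (toGens D) D.m x P R hs
  obtain ⟨GA⟩ := hG G (toGens D) D.m x P R
  have hrel := hR G (toGens D) D.m x P R
  have hpt' := hpt G (toGens D) D.m x P R
  have hinv := @hI Lb A B _ _ _ _ G D k _ x P R hs F hFe
  rw [← hFe] at GA hrel hpt'
  exact frRing_of D F x GA hrel hpt' @hinv

end Groth.Agent.ResProp.EF.K743
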