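import Groth.Agent.ResProp.EF.K743.Iface
import Mathlib.LinearAlgebra.Matrix.GeneralLinearGroup.Basic

/-!
# Cover datum, team B: the frame ring as a subring of the ring of frames over one orbit
-/

set_option autoImplicit false

universe u

open Groth.Agent.Grpsch.AffGrpd

namespace Groth.Agent.ResProp.EF.K743

variable {A Γ : Type u} [CommRing A] [CommRing Γ]

/-- The universal ring `L = Γ_x ⊗ O(GL_r₁ × GL_r₂)`: a point `y : K → T`, an arrow `γ` with source `x` (over `y`) and two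
invertible matrices. -/
structure LRing (G : RGrpd A Γ) {K : Type u} [Field K] (x : A →+* K) (r₁ r₂ : ℕ) where
  L : Type u
  [commRing : CommRing L]
  y : K →+* L
  γ : Γ →+* L
  hγ : γ.comp G.s = y.comp x
  l₁ : GL (Fin r₁) L
  l₂ : GL (Fin r₂) L
  lift : ∀ {T : Type u} [CommRing T] (y' : K →+* T) (γ' : Γ →+* T) (_ : γ'.comp G.s = y'.comp x)
    (_ : GL (Fin r₁) T) (_ : GL (Fin r₂) T), L →+* T
  lift_y : ∀ {T : Type u} [CommRing T] (y' : K →+* T) (γ' : Γ →+* T) (h : γ'.comp G.s = y'.comp x)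
    (g₁ : GL (Fin r₁) T) (g₂ : GL (Fin r₂) T), (lift y' γ' h g₁ g₂).comp y = y'
  lift_γ : ∀ {T : Type u} [CommRing T] (y' : K →+* T) (γ' : Γ →+* T) (h : γ'.comp G.s = y'.comp x)
    (g₁ : GL (Fin r₁) T) (g₂ : GL (Fin r₂) T), (lift y' γ' h g₁ g₂).comp γ = γ'
  lift_l₁ : ∀ {T : Type u} [CommRing T] (y' : K →+* T) (γ' : Γ →+* T) (h : γ'.comp G.s = y'.comp x)
    (g₁ : GL (Fin r₁) T) (g₂ : GL (Fin r₂) T) (i j : Fin r₁), (lift y' γ' h g₁ g₂) (l₁.1 i j) = g₁.1 i j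
  lift_l₂ : ∀ {T : Type u} [CommRing T] (y' : K →+* T) (γ' : Γ →+* T) (h : γ'.comp G.s = y'.comp x)
    (g₁ : GL (Fin r₁) T) (g₂ : GL (Fin r₂) T) (i j : Fin r₂), (lift y' γ' h g₁ g₂) (l₂.1 i j) = g₂.1 i j
  ext : ∀ {T : Type u} [CommRing T] (φ ψ : L →+* T), φ.comp y = ψ.comp y → φ.comp γ = ψ.comp γ →
    (∀ i j, φ (l₁.1 i j) = ψ (l₁.1 i j)) → (∀ i j, φ (l₂.1 i j) = ψ (l₂.1 i j)) → φ = ψ

attribute [instance] LRing.commRing

/-- The data at the point: `W_i(x)` = the span of the `x_j` (of the `x^J`) in `Γ_x`, in coordinates. -/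
structure PtData (G : RGrpd A Γ) (X : Gens G) (m : ℕ) {K : Type u} [Field K] (x : A →+* K) where
  r₁ : ℕ
  r₂ : ℕ
  /-- the coordinates of `x_j` in `W₁(x)` -/
  V₁ : Fin X.n → Fin r₁ → K
  /-- the multiplication in coordinates -/
  μ₀ : (Fin m → Fin r₁) → Fin r₂ → K
  span₁ : ∃ I : Fin r₁ → Fin X.n, Matrix.det (Matrix.of fun i a => V₁ (I i) a) ≠ 0
  span₂ : ∃ I : Fin r₂ → Fin m → Fin X.n,
    Matrix.det (Matrix.of fun i b => ∑ κ : Fin m → Fin r₁, (∏ k, V₁ (I i k) (κ k)) * μ₀ κ b) ≠ 0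
  /-- a basis of `W₁(x)` as functions on arrows with source `x` -/
  w₁ : ∀ {T : Type u} [CommRing T] (y : K →+* T) (h : Γ →+* T), h.comp G.s = y.comp x → Fin r₁ → T
  w₂ : ∀ {T : Type u} [CommRing T] (y : K →+* T) (h : Γ →+* T), h.comp G.s = y.comp x → Fin r₂ → T
  hw₁ : ∀ {T : Type u} [CommRing T] (y : K →+* T) (h : Γ →+* T) (e : h.comp G.s = y.comp x) (j : Fin X.n),
    h (X.x j) = ∑ a, w₁ y h e a * y (V₁ j a)
  hw₂ : ∀ {T : Type u} [CommRing T] (y : K →+* T) (h : Γ →+* T) (e : h.comp G.s = y.comp x) (J : Fin m → Fin X.n),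
    h (X.mon J) = ∑ b, w₂ y h e b * y (∑ κ : Fin m → Fin r₁, (∏ k, V₁ (J k) (κ k)) * μ₀ κ b)
  hμ : ∀ {T : Type u} [CommRing T] (y : K →+* T) (h : Γ →+* T) (e : h.comp G.s = y.comp x) (κ : Fin m → Fin r₁),
    ∏ i, w₁ y h e (κ i) = ∑ b, w₂ y h e b * y (μ₀ κ b)
  /-- linear independence of the basis after any base change: `W₁(x) ⊗ T → Γ_x ⊗ T` is injective -/
  inj₁ : ∀ {T : Type u} [CommRing T] (y : K →+* T) (d : Fin r₁ → T),
    (∀ {T' : Type u} [CommRing T'] (f : T →+* T') (h : Γ →+* T') (e : h.comp G.s = (f.comp y).comp x),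
      ∑ a, w₁ (f.comp y) h e a * f (d a) = 0) → d = 0
  inj₂ : ∀ {T : Type u} [CommRing T] (y : K →+* T) (d : Fin r₂ → T),
    (∀ {T' : Type u} [CommRing T'] (f : T →+* T') (h : Γ →+* T') (e : h.comp G.s = (f.comp y).comp x),
      ∑ b, w₂ (f.comp y) h e b * f (d b) = 0) → d = 0

namespace LRing

variable {G : RGrpd A Γ} {X : Gens G} {m : ℕ} {K : Type u} [Field K] {x : A →+* K}

section defs

variable (P : PtData G X m x) (R : LRing G x P.r₁ P.r₂)

/-- the universal `Q₁`: `Q₁ j = ∑_k c_kj(γ⁻¹) l₁ V₁ k` -/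
noncomputable def Q₁L (j : Fin X.n) (a : Fin P.r₁) : R.L :=
  ∑ k, R.γ (G.i (X.c k j)) * ∑ a', R.l₁.1 a a' * R.y (P.V₁ k a')

/-- the universal `μ` -/
noncomputable def μL (κ : Fin m → Fin P.r₁) (b : Fin P.r₂) : R.L :=
  ∑ b', ∑ κ' : Fin m → Fin P.r₁, R.l₂.1 b b' * R.y (P.μ₀ κ' b') * ∏ i, (R.l₁⁻¹).1 (κ' i) (κ i)

/-- the frame ring: the closure of the orbit of the point -/
noncomputable def DL : Subring R.L := Subring.closure (Set.range (R.γ.comp G.t) ∪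
  Set.range (fun p : Fin X.n × Fin P.r₁ => Q₁L P R p.1 p.2) ∪
  Set.range (fun p : (Fin m → Fin P.r₁) × Fin P.r₂ => μL P R p.1 p.2))

/-- the frame data -/
noncomputable def frameData : FrameData G X m where
  D := DL P R
  ι := (R.γ.comp G.t).codRestrict _ fun a => Subring.subset_closure (Or.inl (Or.inl ⟨a, rfl⟩))
  r₁ := P.r₁
  r₂ := P.r₂
  Q₁ j a := ⟨Q₁L P R j a, Subring.subset_closure (Or.inl (Or.inr ⟨(j, a), rfl⟩))⟩
  μ κ b := ⟨μL P R κ b, Subring.subset_closure (Or.inr ⟨(κ, b), rfl⟩)⟩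
  gen := by
    apply top_le_iff.1
    rintro ⟨z, hz⟩ -
    induction hz using Subring.closure_induction with
    | mem z hz =>
      apply Subring.subset_closure
      rcases hz with (⟨a, rfl⟩ | ⟨p, rfl⟩) | ⟨p, rfl⟩
      · exact Or.inl (Or.inl ⟨a, rfl⟩)
      · exact Or.inl (Or.inr ⟨p, rfl⟩)
      · exact Or.inr ⟨p, rfl⟩
    | zero => exact Subring.zero_mem _
    | one => exact Subring.one_mem _
    | add a b ha hb h₁ h₂ => exact Subring.add_mem _ h₁ h₂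
    | neg a ha h => exact Subring.neg_mem _ h
    | mul a b ha hb h₁ h₂ => exact Subring.mul_mem _ h₁ h₂

end defs

end LRing

/-- the right action of `GL_r₁ × GL_r₂` on the frames, on points -/
structure GLAct {G : RGrpd A Γ} {X : Gens G} {m : ℕ} (F : FrameData G X m) where
  gact : ∀ {T : Type u} [CommRing T] (_ : GL (Fin F.r₁) T) (_ : GL (Fin F.r₂) T) (_ : F.D →+* T), F.D →+* T
  gact_ι : ∀ {T : Type u} [CommRing T] (g₁ : GL (Fin F.r₁) T) (g₂ : GL (Fin F.r₂) T) (φ : F.D →+* T),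
    (gact g₁ g₂ φ).comp F.ι = φ.comp F.ι
  gact_Q₁ : ∀ {T : Type u} [CommRing T] (g₁ : GL (Fin F.r₁) T) (g₂ : GL (Fin F.r₂) T) (φ : F.D →+* T)
    (j : Fin X.n) (a : Fin F.r₁), gact g₁ g₂ φ (F.Q₁ j a) = ∑ a', (g₁⁻¹).1 a a' * φ (F.Q₁ j a')
  gact_μ : ∀ {T : Type u} [CommRing T] (g₁ : GL (Fin F.r₁) T) (g₂ : GL (Fin F.r₂) T) (φ : F.D →+* T)
    (κ : Fin m → Fin F.r₁) (b : Fin F.r₂), gact g₁ g₂ φ (F.μ κ b) =
      ∑ b', ∑ κ' : Fin m → Fin F.r₁, (g₂⁻¹).1 b b' * φ (F.μ κ' b') * ∏ i, g₁.1 (κ' i) (κ i)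

/-- the invariant functions are invariant -/
def FrameInv {𝕜 : Type u} [CommRing 𝕜] [Algebra 𝕜 A] {G : RGrpd A Γ} {X : Gens G} (M : MData 𝕜 G X)
    (F : Frame G X M.m) : Prop :=
  ∀ {T : Type u} [CommRing T] (σ : Γ →+* T) (φ : F.D →+* T) (h : σ.comp G.s = φ.comp F.ι) (i : TIdx M F.toFrameData),
    F.act σ φ h (theta M F.toFrameData i) = φ (theta M F.toFrameData i)

/-! ### Nodes -/

/-- F1 -/
def StmtLRing : Prop := ∀ {A Γ : Type u} [CommRing A] [CommRing Γ] (G : RGrpd A Γ) {K : Type u} [Field K] (x : A →+* K)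
    (r₁ r₂ : ℕ), Nonempty (LRing G x r₁ r₂)

/-- F2 -/
def StmtPtData : Prop := ∀ {A Γ : Type u} [CommRing A] [CommRing Γ] (G : RGrpd A Γ) (X : Gens G) (m : ℕ) {K : Type u}
    [Field K] (x : A →+* K), Nonempty (PtData G X m x)

/-- F3: the action of the groupoid on the closure, and all identities. -/
def StmtFrame : Prop := ∀ {A Γ : Type u} [CommRing A] [CommRing Γ] (G : RGrpd A Γ) (X : Gens G) (m : ℕ) {K : Type u}
    [Field K] (x : A →+* K) (P : PtData G X m x) (R : LRing G x P.r₁ P.r₂), G.s.Flat →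
    ∃ F : Frame G X m, F.toFrameData = LRing.frameData P R

/-- F4: the invariant functions are invariant (a formula in `L`). -/
def StmtFrameInv : Prop := ∀ {𝕜 A Γ : Type u} [CommRing 𝕜] [CommRing A] [CommRing Γ] [Algebra 𝕜 A] (G : RGrpd A Γ)
    (X : Gens G) (M : MData 𝕜 G X) {K : Type u} [Field K] (x : A →+* K) (P : PtData G X M.m x)
    (R : LRing G x P.r₁ P.r₂) (_ : G.s.Flat) (F : Frame G X M.m), F.toFrameData = LRing.frameData P R → FrameInv M F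

/-- F5: the group acts -/
def StmtGLAct : Prop := ∀ {A Γ : Type u} [CommRing A] [CommRing Γ] (G : RGrpd A Γ) (X : Gens G) (m : ℕ) {K : Type u}
    [Field K] (x : A →+* K) (P : PtData G X m x) (R : LRing G x P.r₁ P.r₂), Nonempty (GLAct (LRing.frameData P R))

/-- F6: the point -/
def StmtPt : Prop := ∀ {A Γ : Type u} [CommRing A] [CommRing Γ] (G : RGrpd A Γ) (X : Gens G) (m : ℕ) {K : Type u}
    [Field K] (x : A →+* K) (P : PtData G X m x) (R : LRing G x P.r₁ P.r₂),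
    ∃ pt : (LRing.frameData P R).D →+* K, pt.comp (LRing.frameData P R).ι = x ∧ (LRing.frameData P R).InW pt

end Groth.Agent.ResProp.EF.K743
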