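import Groth.Agent.ResProp.EF.K412.Out
import Groth.Agent.ResProp.EF.K128.Conerve

/-!
# Node R1: the ring level groupoid of a groupoid ring
-/

set_option autoImplicit false

universe u

open CategoryTheory CategoryTheory.Limits Opposite
open Groth.Agent.Grpsch.AffGrpd EF56 K784.BC K784.PM K741.RP

namespace Groth.Agent.ResProp.EF.K743.R1

open K128.Nerve

variable (A : NFᵒᵖ ⥤ CommRingCat.{u})

/-- the ring map of an arrow -/
def m {a b : NF} (φ : a ⟶ b) : A.obj (op b) →+* A.obj (op a) := (A.map φ.op).hom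

theorem m_comp {a b c : NF} (φ : a ⟶ b) (ψ : b ⟶ c) : (m A φ).comp (m A ψ) = m A (φ ≫ ψ) := by
  unfold m
  rw [op_comp, A.map_comp]
  rfl

theorem m_comp' {a b c : NF} (φ : a ⟶ b) (ψ : b ⟶ c) (χ : a ⟶ c) (h : φ ≫ ψ = χ) : (m A φ).comp (m A ψ) = m A χ := by
  rw [m_comp, h]

theorem m_id (a : NF) : m A (𝟙 a) = RingHom.id _ := by
  unfold m
  rw [op_id, A.map_id]
  rfl

variable {A} (hA : Seg A)

include hA

/-- points of a pushout -/
theorem exists_lift {a b : NF} (φ : a ⟶ b) {T : Type u} [CommRing T] (f : A.obj (op a) →+* T)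
    (g : A.obj (op ⟨b.n + 1⟩) →+* T) (h : f.comp (m A φ) = g.comp (m A (pr b))) :
    ∃ χ : A.obj (op ⟨a.n + 1⟩) →+* T, χ.comp (m A (pr a)) = f ∧ χ.comp (m A (wmap φ)) = g := by
  have hP := hA φ
  have h' : A.map φ.op ≫ CommRingCat.ofHom f = A.map (pr b).op ≫ CommRingCat.ofHom g := by
    ext z
    exact RingHom.congr_fun h z
  refine ⟨(hP.desc (CommRingCat.ofHom f) (CommRingCat.ofHom g) h').hom, ?_, ?_⟩
  · exact congrArg CommRingCat.Hom.hom (hP.inl_desc (CommRingCat.ofHom f) (CommRingCat.ofHom g) h')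
  · exact congrArg CommRingCat.Hom.hom (hP.inr_desc (CommRingCat.ofHom f) (CommRingCat.ofHom g) h')

theorem ext_lift {a b : NF} (φ : a ⟶ b) {T : Type u} [CommRing T] {χ χ' : A.obj (op ⟨a.n + 1⟩) →+* T}
    (h1 : χ.comp (m A (pr a)) = χ'.comp (m A (pr a))) (h2 : χ.comp (m A (wmap φ)) = χ'.comp (m A (wmap φ))) :
    χ = χ' := by
  have hP := hA φ
  have e1 : A.map (pr a).op ≫ CommRingCat.ofHom χ = A.map (pr a).op ≫ CommRingCat.ofHom χ' := by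
    ext z
    exact RingHom.congr_fun h1 z
  have e2 : A.map (wmap φ).op ≫ CommRingCat.ofHom χ = A.map (wmap φ).op ≫ CommRingCat.ofHom χ' := by
    ext z
    exact RingHom.congr_fun h2 z
  exact congrArg CommRingCat.Hom.hom (hP.hom_ext e1 e2)

omit hA

theorem wmap_lst0 : wmap (lst ⟨0⟩) = edge (n := 2) 1 2 := by
  funext x; fin_cases x <;> rfl

theorem pr1 : pr ⟨1⟩ = edge (n := 2) 0 1 := by
  funext x; fin_cases x <;> rfl

theorem wmap_lst1 : wmap (lst ⟨1⟩) = edge (n := 3) 2 3 := by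
  funext x; fin_cases x <;> rfl

theorem pr2 : pr ⟨2⟩ = tri (n := 3) 0 1 2 := by
  funext x; fin_cases x <;> rfl

theorem edge_pr0 {n : ℕ} (i j : Fin (n + 1)) : edge i j ≫ pr ⟨0⟩ = pt ⟨n⟩ i := by
  funext x; fin_cases x; rfl

theorem edge_lst0 {n : ℕ} (i j : Fin (n + 1)) : edge i j ≫ lst ⟨0⟩ = pt ⟨n⟩ j := by
  funext x; fin_cases x; rfl

theorem pr0 : pr ⟨0⟩ = pt ⟨1⟩ 0 := by
  funext x; fin_cases x; rfl

theorem lst0 : lst ⟨0⟩ = pt ⟨1⟩ 1 := by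
  funext x; fin_cases x; rfl

include hA

/-- a pair of composable arrows is a point of `A⟨2⟩` -/
theorem exists_two {T : Type u} [CommRing T] (β α : A.obj (op ⟨1⟩) →+* T)
    (h : α.comp (m A (pr ⟨0⟩)) = β.comp (m A (lst ⟨0⟩))) :
    ∃ χ : A.obj (op ⟨2⟩) →+* T, χ.comp (m A (edge (n := 2) 0 1)) = β ∧ χ.comp (m A (edge (n := 2) 1 2)) = α := by
  rw [← pr1, ← wmap_lst0]
  exact exists_lift hA (lst ⟨0⟩) β α h.symm

theorem ext_two {T : Type u} [CommRing T] {χ χ' : A.obj (op ⟨2⟩) →+* T}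
    (h1 : χ.comp (m A (edge (n := 2) 0 1)) = χ'.comp (m A (edge (n := 2) 0 1)))
    (h2 : χ.comp (m A (edge (n := 2) 1 2)) = χ'.comp (m A (edge (n := 2) 1 2))) : χ = χ' := by
  rw [← pr1] at h1
  rw [← wmap_lst0] at h2
  exact ext_lift hA (lst ⟨0⟩) h1 h2

/-- three composable arrows are a point of `A⟨3⟩` -/
theorem exists_three {T : Type u} [CommRing T] (γ β α : A.obj (op ⟨1⟩) →+* T)
    (h1 : β.comp (m A (pr ⟨0⟩)) = γ.comp (m A (lst ⟨0⟩))) (h2 : α.comp (m A (pr ⟨0⟩)) = β.comp (m A (lst ⟨0⟩))) :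
    ∃ ξ : A.obj (op ⟨3⟩) →+* T, ξ.comp (m A (edge (n := 3) 0 1)) = γ ∧ ξ.comp (m A (edge (n := 3) 1 2)) = β ∧
      ξ.comp (m A (edge (n := 3) 2 3)) = α := by
  obtain ⟨χ, hχ1, hχ2⟩ := exists_two hA γ β h1
  have h3 : χ.comp (m A (lst ⟨1⟩)) = α.comp (m A (pr ⟨0⟩)) := by
    rw [h2, ← hχ2, RingHom.comp_assoc, m_comp' A (edge (n := 2) 1 2) (lst ⟨0⟩) (lst ⟨1⟩) (by
      funext x; fin_cases x; rfl)]
  obtain ⟨ξ, hξ1, hξ2⟩ := exists_lift hA (lst ⟨1⟩) χ α h3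
  rw [pr2] at hξ1
  rw [wmap_lst1] at hξ2
  refine ⟨ξ, ?_, ?_, hξ2⟩
  · rw [← hχ1, ← hξ1, RingHom.comp_assoc, m_comp' A (tri (n := 3) 0 1 2) (edge (n := 2) 0 1) (edge (n := 3) 0 1)
      (tri_edge01 _ _ _)]
  · rw [← hχ2, ← hξ1, RingHom.comp_assoc, m_comp' A (tri (n := 3) 0 1 2) (edge (n := 2) 1 2) (edge (n := 3) 1 2)
      (tri_edge12 _ _ _)]

/-- composition -/
noncomputable def cmp {T : Type u} [CommRing T] (α β : A.obj (op ⟨1⟩) →+* T)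
    (h : α.comp (m A (pr ⟨0⟩)) = β.comp (m A (lst ⟨0⟩))) : A.obj (op ⟨1⟩) →+* T :=
  (exists_two hA β α h).choose.comp (m A (edge (n := 2) 0 2))

theorem cmp_eq {T : Type u} [CommRing T] {α β : A.obj (op ⟨1⟩) →+* T}
    (h : α.comp (m A (pr ⟨0⟩)) = β.comp (m A (lst ⟨0⟩))) (χ : A.obj (op ⟨2⟩) →+* T)
    (h1 : χ.comp (m A (edge (n := 2) 0 1)) = β) (h2 : χ.comp (m A (edge (n := 2) 1 2)) = α) :
    cmp hA α β h = χ.comp (m A (edge (n := 2) 0 2)) := by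
  unfold cmp
  rw [ext_two hA ((exists_two hA β α h).choose_spec.1.trans h1.symm) ((exists_two hA β α h).choose_spec.2.trans h2.symm)]

/-- composition of two edges of a triangle -/
theorem cmp_tri {n : ℕ} {T : Type u} [CommRing T] {α β : A.obj (op ⟨1⟩) →+* T}
    (h : α.comp (m A (pr ⟨0⟩)) = β.comp (m A (lst ⟨0⟩))) (ξ : A.obj (op ⟨n⟩) →+* T) (i j k : Fin (n + 1))
    (h1 : ξ.comp (m A (edge i j)) = β) (h2 : ξ.comp (m A (edge j k)) = α) :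
    cmp hA α β h = ξ.comp (m A (edge i k)) := by
  rw [cmp_eq hA h (ξ.comp (m A (tri i j k)))]
  · rw [RingHom.comp_assoc, m_comp' A _ _ _ (tri_edge02 i j k)]
  · rw [RingHom.comp_assoc, m_comp' A _ _ _ (tri_edge01 i j k), h1]
  · rw [RingHom.comp_assoc, m_comp' A _ _ _ (tri_edge12 i j k), h2]

omit hA

theorem edge01_id : edge (n := 1) 0 1 = 𝟙 _ := by
  funext x; fin_cases x <;> rfl

theorem pt0_edge (n : ℕ) (i : Fin (n + 1)) : pt ⟨n⟩ i ≫ edge (n := 0) 0 0 = edge i i := by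
  funext x; fin_cases x <;> rfl

theorem edge_id {T : Type u} [CommRing T] (α : A.obj (op ⟨1⟩) →+* T) : α.comp (m A (edge (n := 1) 0 1)) = α := by
  rw [edge01_id, m_id, RingHom.comp_id]

/-- the groupoid -/
noncomputable def grpd (hA : Seg A) : RGrpd (A.obj (op ⟨0⟩)) (A.obj (op ⟨1⟩)) where
  s := m A (pr ⟨0⟩)
  t := m A (lst ⟨0⟩)
  e := m A (edge (n := 0) 0 0)
  i := m A (edge (n := 1) 1 0)
  comp α β h := cmp hA α β h
  comp_s α β h := by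
    obtain ⟨χ, h1, h2⟩ := exists_two hA β α h
    rw [cmp_eq hA h χ h1 h2, ← h1, RingHom.comp_assoc, RingHom.comp_assoc,
      m_comp' A _ _ _ (edge_pr0 (n := 2) 0 2), m_comp' A _ _ _ (edge_pr0 (n := 2) 0 1)]
  comp_t α β h := by
    obtain ⟨χ, h1, h2⟩ := exists_two hA β α h
    rw [cmp_eq hA h χ h1 h2, ← h2, RingHom.comp_assoc, RingHom.comp_assoc,
      m_comp' A _ _ _ (edge_lst0 (n := 2) 0 2), m_comp' A _ _ _ (edge_lst0 (n := 2) 1 2)]
  comp_nat f α β h := by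
    obtain ⟨χ, h1, h2⟩ := exists_two hA β α h
    rw [cmp_eq hA h χ h1 h2, cmp_eq hA _ (f.comp χ) (by rw [RingHom.comp_assoc, h1]) (by rw [RingHom.comp_assoc, h2]),
      RingHom.comp_assoc]
  assoc α β γ h₁ h₂ := by
    obtain ⟨ξ, e1, e2, e3⟩ := exists_three hA γ β α h₂ h₁
    have f1 : cmp hA α β h₁ = ξ.comp (m A (edge (n := 3) 1 3)) := cmp_tri hA _ ξ 1 2 3 e2 e3
    have f2 : cmp hA β γ h₂ = ξ.comp (m A (edge (n := 3) 0 2)) := cmp_tri hA _ ξ 0 1 2 e1 e2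
    rw [cmp_tri hA _ ξ 0 1 3 e1 f1.symm, cmp_tri hA _ ξ 0 2 3 f2.symm e3]
  e_s := by rw [m_comp, show edge (n := 0) 0 0 ≫ pr ⟨0⟩ = 𝟙 _ by funext x; fin_cases x; rfl, m_id]
  e_t := by rw [m_comp, show edge (n := 0) 0 0 ≫ lst ⟨0⟩ = 𝟙 _ by funext x; fin_cases x; rfl, m_id]
  comp_e α := by
    rw [cmp_tri hA _ α 0 0 1 ?_ (edge_id α)]
    · exact edge_id α
    · rw [pr0, RingHom.comp_assoc, m_comp' A _ _ _ (pt0_edge 1 0)]
  e_comp α := by
    rw [cmp_tri hA _ α 0 1 1 (edge_id α) ?_]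
    · exact edge_id α
    · rw [lst0, RingHom.comp_assoc, m_comp' A _ _ _ (pt0_edge 1 1)]
  i_s := by rw [m_comp, edge_pr0, lst0]
  i_t := by rw [m_comp, edge_lst0, pr0]
  comp_i α := by
    rw [cmp_tri hA _ α 1 0 1 rfl (edge_id α), lst0, RingHom.comp_assoc, m_comp' A _ _ _ (pt0_edge 1 1)]
  i_comp α := by
    rw [cmp_tri hA _ α 0 1 0 (edge_id α) rfl, pr0, RingHom.comp_assoc, m_comp' A _ _ _ (pt0_edge 1 0)]

/-- **Node R1** -/
theorem r1 : K412.R1.{u} := by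
  intro A hA
  refine ⟨grpd (K128.Conerve.seg_of_GR hA), rfl, rfl, ?_⟩
  intro T _ χ h
  exact cmp_eq (K128.Conerve.seg_of_GR hA) h χ rfl rfl

end Groth.Agent.ResProp.EF.K743.R1
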