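import Groth.Agent.ResProp.EF.K743.Iface2
import Groth.Agent.ResProp.EF.K412.Defs

/-!
# Translation: team B nodes give `K412.N2`
-/

set_option autoImplicit false

universe u

open Groth.Agent.Grpsch.AffGrpd

namespace Groth.Agent.ResProp.EF.K743

variable {A B : Type u} [CommRing A] [CommRing B] {Lb : Type u} [CommRing Lb] [Algebra Lb A] {G : RGrpd A B}

/-- the generators of a `K412.Gen` generate -/
theorem gen_closure (D : K412.Gen Lb G) : Subring.closure (Set.range G.s ∪ Set.range D.c) = ⊤ := by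
  set S := Subring.closure (Set.range G.s ∪ Set.range D.c) with hS
  have h1 : ∀ a, G.s a ∈ S := fun a => Subring.subset_closure (Or.inl ⟨a, rfl⟩)
  have h2 : ∀ j, D.c j ∈ S := fun j => Subring.subset_closure (Or.inr ⟨j, rfl⟩)
  obtain ⟨F, hF1, hF2⟩ := D.pres (T := S) (G.s.codRestrict S h1) (fun j => ⟨D.c j, h2 j⟩)
    (Subtype.ext (by simpa using D.c_i0)) (by
      intro p hp
      apply Subtype.ext
      have : (S.subtype (∑ J, (G.s.codRestrict S h1) (p J) * K412.mon (fun j => (⟨D.c j, h2 j⟩ : S)) J)) = 0 := by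
        rw [map_sum, ← hp]
        refine Finset.sum_congr rfl fun J _ => ?_
        rw [map_mul]
        congr 1
        rw [K412.mon, map_prod]
        rfl
      simpa using this)
  have h3 : S.subtype.comp F = RingHom.id B := by
    apply D.gen
    · rw [RingHom.comp_assoc, hF1]; rfl
    · intro j
      rw [RingHom.comp_apply, hF2]; rfl
  rw [eq_top_iff]
  intro b _
  have := congrArg (fun f : B →+* B => f b) h3
  simp only [RingHom.comp_apply, RingHom.id_apply] at this
  rw [← this]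
  exact (F b).2

/-- the generators of a `K412.Gen` -/
def toGens (D : K412.Gen Lb G) : Gens G where
  n := D.n
  x := D.c
  c := D.g
  j0 := D.i0
  hx0 := D.c_i0
  gen := gen_closure D
  hc α β h j := D.comp_c α β h j

/-- the framed point of a frame datum -/
def frPt (D : K412.Gen Lb G) (F : FrameData G (toGens D) D.m) : K412.FrPt D F.r₁ F.r₂ F.D where
  a := F.ι
  M b j := F.Q₁ j b
  Mm b J := F.Q₂ J b
  mu b Q := F.μ Q b

/-- **F7**: linear relations -/
def StmtRel1 : Prop := ∀ {A Γ : Type u} [CommRing A] [CommRing Γ] (G : RGrpd A Γ) (X : Gens G) (m : ℕ) {K : Type u}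
    [Field K] (x : A →+* K) (P : PtData G X m x) (R : LRing G x P.r₁ P.r₂) (u : Fin X.n → A),
    ∑ j, G.s (u j) * X.x j = 0 → ∀ a, ∑ j, (LRing.frameData P R).ι (u j) * (LRing.frameData P R).Q₁ j a = 0

/-- **F8** (replaces F4; no `be`): theta is invariant -/
def StmtThetaInv : Prop := ∀ {Lb A B : Type u} [CommRing Lb] [CommRing A] [CommRing B] [Algebra Lb A] (G : RGrpd A B)
    (D : K412.Gen Lb G) {K : Type u} [Field K] (x : A →+* K) (P : PtData G (toGens D) D.m x)
    (R : LRing G x P.r₁ P.r₂) (_ : G.s.Flat) (F : Frame G (toGens D) D.m), F.toFrameData = LRing.frameData P R →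
    ∀ {T : Type u} [CommRing T] (σ : B →+* T) (φ : F.D →+* T) (h : σ.comp G.s = φ.comp F.ι),
      (∀ a, F.act σ φ h (F.Q₁ D.i0 a) = φ (F.Q₁ D.i0 a)) ∧
      (∀ l b, F.act σ φ h (∑ J, F.ι (D.tx l J) * F.Q₂ J b) = φ (∑ J, F.ι (D.tx l J) * F.Q₂ J b)) ∧
      (∀ j a b, F.act σ φ h (∑ k, ∑ J, F.ι (D.ig k j J) * F.Q₁ k a * F.Q₂ J b) =
        φ (∑ k, ∑ J, F.ι (D.ig k j J) * F.Q₁ k a * F.Q₂ J b))

end Groth.Agent.ResProp.EF.K743
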